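import Cfsg.Agent.Lib.OrthH1.Engine

/-!
# Certificates for the elliptic form in dimension six and the hyperbolic form in dimension eight
-/

set_option autoImplicit false

namespace Cfsg.Agent.OrthH1

/-- Coordinates of the elliptic space. -/
def enMinus (m : ℕ) : (Fin m ⊕ Fin m) ⊕ Fin 2 ≃ Fin (m + m + 2) :=
  (Equiv.sumCongr finSumFinEquiv (Equiv.refl _)).trans finSumFinEquiv

/-- Coordinates of the hyperbolic space. -/
def enPlus (m : ℕ) : Fin m ⊕ Fin m ≃ Fin (m + m) := finSumFinEquiv

def certMinus : Cert where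
  u := 5
  R := [(5, 11), (7, 10), (16, 32)]
  Z := [((17, 34), [(5, 11), (7, 10), (32, 16)]), ((20, 34), [(5, 11), (10, 7), (16, 32)])]
  tree := [(11, 5, (5, 11)),
    (20, 5, (17, 34)),
    (17, 5, (20, 34)),
    (14, 11, (5, 11)),
    (56, 11, (17, 34)),
    (41, 11, (20, 34)),
    (31, 20, (5, 11)),
    (19, 20, (7, 10)),
    (36, 20, (16, 32)),
    (54, 20, (17, 34)),
    (34, 20, (20, 34)),
    (22, 17, (7, 10)),
    (33, 17, (16, 32)),
    (51, 17, (20, 34)),
    (44, 14, (17, 34)),
    (50, 56, (7, 10)),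
    (24, 56, (16, 32)),
    (57, 41, (16, 32)),
    (47, 31, (16, 32)),
    (25, 19, (7, 10)),
    (35, 19, (16, 32)),
    (32, 19, (17, 34)),
    (49, 19, (20, 34)),
    (52, 36, (16, 32)),
    (48, 36, (20, 34)),
    (60, 54, (7, 10)),
    (28, 22, (7, 10)),
    (38, 22, (16, 32)),
    (63, 50, (7, 10)),
    (18, 50, (16, 32)),
    (16, 50, (17, 34)),
    (40, 24, (16, 32)),
    (13, 25, (20, 34)),
    (7, 49, (20, 34)),
    (10, 40, (17, 34))]
def certPlus : Cert where
  u := 17
  R := [(17, 35), (19, 34), (68, 140), (76, 136)]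
  Z := [((21, 43), [(17, 35), (19, 34), (140, 68), (136, 76)]), ((23, 42), [(17, 35), (19, 34), (140, 68), (136, 76)]), ((21, 58), [(17, 35), (19, 34), (68, 140), (76, 136)]), ((23, 42), [(17, 35), (19, 34), (140, 68), (136, 76)])]
  tree := [(35, 17, (17, 35)),
    (47, 17, (21, 43)),
    (62, 17, (21, 58)),
    (50, 35, (17, 35)),
    (54, 35, (21, 43)),
    (25, 35, (21, 58)),
    (163, 47, (68, 140)),
    (167, 47, (76, 136)),
    (58, 47, (21, 43)),
    (21, 47, (21, 58)),
    (29, 62, (17, 35)),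
    (178, 62, (68, 140)),
    (182, 62, (76, 136)),
    (43, 62, (21, 58)),
    (39, 50, (21, 58)),
    (114, 54, (68, 140)),
    (122, 54, (76, 136)),
    (209, 25, (68, 140)),
    (221, 25, (76, 136)),
    (107, 163, (68, 140)),
    (136, 163, (21, 43)),
    (158, 163, (23, 42)),
    (99, 167, (76, 136)),
    (140, 167, (21, 43)),
    (154, 167, (23, 42)),
    (242, 58, (68, 140)),
    (254, 58, (76, 136)),
    (81, 21, (68, 140)),
    (89, 21, (76, 136)),
    (145, 29, (68, 140)),
    (149, 29, (76, 136)),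
    (143, 178, (23, 42)),
    (139, 182, (23, 42)),
    (227, 43, (68, 140)),
    (239, 43, (76, 136)),
    (76, 114, (21, 43)),
    (101, 114, (23, 42)),
    (68, 122, (21, 43)),
    (109, 122, (23, 42)),
    (196, 209, (21, 43)),
    (251, 209, (23, 42)),
    (200, 221, (21, 43)),
    (247, 221, (23, 42)),
    (124, 107, (23, 42)),
    (181, 136, (23, 42)),
    (188, 158, (19, 34)),
    (218, 158, (68, 140)),
    (137, 158, (23, 42)),
    (116, 99, (23, 42)),
    (177, 140, (23, 42)),
    (184, 154, (19, 34)),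
    (214, 154, (76, 136)),
    (141, 154, (23, 42)),
    (216, 242, (23, 42)),
    (212, 254, (23, 42)),
    (70, 81, (23, 42)),
    (78, 89, (23, 42)),
    (172, 145, (23, 42)),
    (168, 149, (23, 42)),
    (173, 143, (19, 34)),
    (203, 143, (68, 140)),
    (152, 143, (23, 42)),
    (169, 139, (19, 34)),
    (199, 139, (76, 136)),
    (156, 139, (23, 42)),
    (201, 227, (23, 42)),
    (197, 239, (23, 42)),
    (91, 76, (23, 42)),
    (84, 101, (19, 34)),
    (79, 101, (23, 42)),
    (83, 68, (23, 42)),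
    (92, 109, (19, 34)),
    (71, 109, (23, 42)),
    (238, 196, (23, 42)),
    (232, 251, (19, 34)),
    (119, 251, (68, 140)),
    (198, 251, (23, 42)),
    (226, 200, (23, 42)),
    (228, 247, (19, 34)),
    (127, 247, (76, 136)),
    (202, 247, (23, 42)),
    (77, 124, (19, 34)),
    (86, 124, (23, 42)),
    (151, 181, (19, 34)),
    (57, 181, (68, 140)),
    (113, 181, (76, 136)),
    (162, 181, (23, 42)),
    (248, 188, (68, 140)),
    (69, 116, (19, 34)),
    (94, 116, (23, 42)),
    (147, 177, (19, 34)),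
    (121, 177, (68, 140)),
    (166, 177, (23, 42)),
    (244, 184, (76, 136)),
    (229, 216, (23, 42)),
    (233, 212, (23, 42)),
    (142, 70, (68, 140)),
    (108, 70, (23, 42)),
    (138, 78, (76, 136)),
    (100, 78, (23, 42)),
    (187, 172, (23, 42)),
    (191, 168, (23, 42)),
    (106, 91, (19, 34)),
    (31, 91, (68, 140)),
    (211, 91, (76, 136)),
    (98, 83, (19, 34)),
    (223, 83, (68, 140)),
    (253, 238, (19, 34)),
    (38, 238, (68, 140)),
    (241, 226, (19, 34)),
    (27, 151, (68, 140)),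
    (19, 57, (23, 42)),
    (61, 113, (76, 136)),
    (42, 162, (76, 136)),
    (46, 106, (68, 140)),
    (34, 31, (23, 42)),
    (23, 211, (76, 136)),
    (53, 253, (68, 140)),
    (49, 38, (23, 42))]

theorem certMinus_valid : certMinus.Valid (enMinus 2) (Cfsg.quadFormMinus 2 (ZMod 2) 1 1) = true := by
  decide +kernel

theorem certPlus_valid : certPlus.Valid (enPlus 4) (Cfsg.quadFormPlus 4 (ZMod 2)) = true := by
  decide +kernel

end Cfsg.Agent.OrthH1
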