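import Mathlib
import Cfsg.Agent.Lib.ClassicalSimple.OrthRefl
import Cfsg.Agent.Lib.Forms.Quad

/-!
# A certificate for vanishing of the first cohomology of `Ω(Q)` on its natural module over two elements

A cocycle is normalised to vanish on an element without fixed points; it then vanishes on everything
commuting with such an element.  A few such elements, closed under one reflection and moving its vector
to every non-singular vector, generate `Ω(Q)`.
-/

set_option autoImplicit false

namespace Cfsg.Agent.OrthH1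

open Cfsg.Agent.ClassicalSimple
open scoped Matrix commutatorElement

section Cocycle

variable {G : Type*} [Group G] {ι : Type} [Fintype ι] [DecidableEq ι]
variable (M : G →* Matrix ι ι (ZMod 2)) (f : G → ι → ZMod 2)

/-- A crossed homomorphism. -/
def IsCocycle : Prop := ∀ g h, f (g * h) = f g + M g *ᵥ f h

/-- Principal crossed homomorphism test. -/
def IsPrincipal : Prop := ∃ v, ∀ g, f g = M g *ᵥ v - v

/-- Only zero is fixed by `x`. -/
def FixFree (x : G) : Prop := ∀ v, M x *ᵥ v = v → v = 0

variable {M f}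

theorem exists_normalized {x : G} (hf : IsCocycle M f) (hx : FixFree M x) :
    ∃ v, IsCocycle M (fun g => f g - (M g *ᵥ v - v)) ∧ f x - (M x *ᵥ v - v) = 0 := by
  have hsurj : Function.Surjective fun v => M x *ᵥ v - v := by
    refine Finite.injective_iff_surjective.1 fun a b h => sub_eq_zero.1 (hx _ ?_)
    have h' : M x *ᵥ a - a = M x *ᵥ b - b := h
    rw [Matrix.mulVec_sub]
    linear_combination (norm := abel) h'
  obtain ⟨v, hv⟩ := hsurj (f x)
  refine ⟨v, fun g h => ?_, sub_eq_zero.2 hv.symm⟩
  simp only [hf g h, map_mul, ← Matrix.mulVec_mulVec, Matrix.mulVec_sub]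
  abel

theorem cocycle_one (hf : IsCocycle M f) : f 1 = 0 := by
  have := hf 1 1
  rw [one_mul, map_one, Matrix.one_mulVec] at this
  exact left_eq_add.1 this

/-- Where a crossed homomorphism vanishes. -/
def zeroSubgroup (hf : IsCocycle M f) : Subgroup G where
  carrier := {g | f g = 0}
  one_mem' := cocycle_one hf
  mul_mem' {a b} ha hb := by
    show f (a * b) = 0
    rw [hf a b, show f a = 0 from ha, show f b = 0 from hb, Matrix.mulVec_zero, add_zero]
  inv_mem' {a} ha := by
    show f a⁻¹ = 0
    have := hf a⁻¹ a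
    rw [inv_mul_cancel, cocycle_one hf, show f a = 0 from ha, Matrix.mulVec_zero, add_zero] at this
    exact this.symm

theorem mem_zero_of_commute (hf : IsCocycle M f) {x z : G} (hx : FixFree M x)
    (hxH : x ∈ zeroSubgroup hf) (h : z * x = x * z) : z ∈ zeroSubgroup hf := by
  refine hx _ ?_
  have h1 : f (x * z) = f (z * x) := by rw [h]
  rw [hf x z, hf z x, show f x = 0 from hxH, Matrix.mulVec_zero, zero_add, add_zero] at h1
  exact h1

theorem isPrincipal_of_zero (v : ι → ZMod 2) (hf : IsCocycle M (fun g => f g - (M g *ᵥ v - v)))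
    (h : zeroSubgroup hf = ⊤) : IsPrincipal M f :=
  ⟨v, fun g => sub_eq_zero.1 (show g ∈ zeroSubgroup hf by rw [h]; trivial)⟩

end Cocycle

variable {ι : Type} [Fintype ι] [DecidableEq ι] {n : ℕ}

/-- The vector with the given binary code. -/
def code (en : ι ≃ Fin n) (x : ℕ) : ι → ZMod 2 := fun i => if x.testBit (en i) then 1 else 0

theorem code_xor (en : ι ≃ Fin n) (x y : ℕ) : code en (x ^^^ y) = code en x + code en y := by
  funext i
  simp only [code, Nat.testBit_xor, Pi.add_apply]
  cases x.testBit (en i) <;> cases y.testBit (en i) <;> decide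

theorem code_surjective (en : ι ≃ Fin n) (v : ι → ZMod 2) : ∃ x < 2 ^ n, code en x = v := by
  refine ⟨Nat.ofBits fun k => decide (v (en.symm k) = 1), Nat.ofBits_lt_two_pow _, funext fun i => ?_⟩
  rw [code, Nat.testBit_ofBits_lt _ _ (en i).isLt]
  simp only [Fin.eta, Equiv.symm_apply_apply, decide_eq_true_eq]
  generalize v i = c
  revert c; decide

theorem code_single (en : ι ≃ Fin n) (i : ι) : code en (2 ^ (en i : ℕ)) = Pi.single i 1 := by
  funext j
  simp only [code, Nat.testBit_two_pow, Pi.single_apply, decide_eq_true_eq]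
  simp only [← Fin.ext_iff, en.injective.eq_iff, eq_comm]

/-- Reflection on codes. -/
def stepN (en : ι ≃ Fin n) (f : (ι → ZMod 2) → ZMod 2) (u x : ℕ) : ℕ :=
  if f (code en u) = 0 then x
  else if f (code en (x ^^^ u)) + f (code en x) + f (code en u) = 0 then x else x ^^^ u

/-- A word in reflections on codes. -/
def evalN (en : ι ≃ Fin n) (f : (ι → ZMod 2) → ZMod 2) : List ℕ → ℕ → ℕ
  | [], x => x
  | u :: w, x => stepN en f u (evalN en f w x)

/-- The reflection word of a rotation. -/
def rotWord (p : ℕ × ℕ) : List ℕ := [p.2, p.1, p.2, p.1]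

/-- The reflection word of a product of rotations. -/
def rotsWord (l : List (ℕ × ℕ)) : List ℕ := l.flatMap rotWord

/-- Whether two words agree on the coordinate vectors. -/
def sameN (en : ι ≃ Fin n) (f : (ι → ZMod 2) → ZMod 2) (v w : List ℕ) : Bool :=
  (List.range n).all fun j => evalN en f v (2 ^ j) == evalN en f w (2 ^ j)

/-- Whether a word fixes only zero. -/
def fixFreeN (en : ι ≃ Fin n) (f : (ι → ZMod 2) → ZMod 2) (w : List ℕ) : Bool :=
  (List.range (2 ^ n)).all fun x => x == 0 || (evalN en f w x ^^^ x) % 2 ^ n != 0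

variable (en : ι ≃ Fin n) {f : (ι → ZMod 2) → ZMod 2} (Q : QuadraticForm (ZMod 2) (ι → ZMod 2))
  (hQ : ∀ v, Q v = f v)

/-- The matrix isometry group as `OQ Q`. -/
noncomputable def toOQ : ↥(Cfsg.isometryGroup (ZMod 2) f) ≃* OQ Q :=
  (MulEquiv.subgroupCongr (by rw [show f = ⇑Q from (funext hQ).symm])).trans (isometryEquiv Q)

/-- The matrix of an isometry. -/
def matHom : ↥(Cfsg.isometryGroup (ZMod 2) f) →* Matrix ι ι (ZMod 2) :=
  (Units.coeHom _).comp (Cfsg.isometryGroup (ZMod 2) f).subtype

/-- The matrix of a member of `Ω`. -/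
def omegaMat : ↥(Cfsg.Omega (ZMod 2) f) →* Matrix ι ι (ZMod 2) :=
  (matHom).comp (Cfsg.Omega (ZMod 2) f).subtype

theorem toOQ_smul (g : ↥(Cfsg.isometryGroup (ZMod 2) f)) (x : ι → ZMod 2) :
    toOQ Q hQ g • x = matHom g *ᵥ x := rfl

open Classical in
/-- The reflection of a code, trivial on singular ones. -/
noncomputable def rf (u : ℕ) : ↥(Cfsg.isometryGroup (ZMod 2) f) :=
  if h : Q (code en u) ≠ 0 then (toOQ Q hQ).symm (orefl h) else 1

theorem rf_apply (u x : ℕ) : matHom (rf en Q hQ u) *ᵥ code en x = code en (stepN en f u x) := by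
  by_cases h : Q (code en u) ≠ 0
  · rw [rf, dif_pos h, ← toOQ_smul Q hQ, MulEquiv.apply_symm_apply, orefl_smul]
    have hone : ∀ c : ZMod 2, c ≠ 0 → c = 1 := by decide
    have hb : bil Q (code en x) (code en u) =
        f (code en (x ^^^ u)) + f (code en x) + f (code en u) := by
      rw [code_xor, ← hQ, ← hQ, ← hQ, quad_add]
      generalize Q (code en x) = a
      generalize Q (code en u) = b
      generalize bil Q (code en x) (code en u) = c
      revert a b c; decide
    rw [hone _ h, inv_one, one_mul, hb, stepN, if_neg (by rw [← hQ]; exact h)]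
    by_cases h0 : f (code en (x ^^^ u)) + f (code en x) + f (code en u) = 0
    · rw [if_pos h0, h0, zero_smul, sub_zero]
    · rw [if_neg h0, hone _ h0, one_smul, code_xor]
      funext i
      simp only [Pi.sub_apply, Pi.add_apply]
      exact (fun a b : ZMod 2 => (by revert a b; decide : a - b = a + b)) _ _
  · rw [rf, dif_neg h, map_one, Matrix.one_mulVec, stepN, if_pos (by rw [← hQ]; exact not_not.1 h)]

/-- The element of a word. -/
noncomputable def word (w : List ℕ) : ↥(Cfsg.isometryGroup (ZMod 2) f) := (w.map (rf en Q hQ)).prod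

theorem word_apply (w : List ℕ) (x : ℕ) :
    matHom (word en Q hQ w) *ᵥ code en x = code en (evalN en f w x) := by
  induction w with
  | nil => simp [word, evalN]
  | cons u w ih =>
    rw [word, List.map_cons, List.prod_cons, map_mul, ← Matrix.mulVec_mulVec]
    rw [word] at ih
    rw [ih, rf_apply]
    rfl

theorem word_append (v w : List ℕ) : word en Q hQ (v ++ w) = word en Q hQ v * word en Q hQ w := by
  simp [word]

theorem word_eq {v w : List ℕ} (h : sameN en f v w = true) : word en Q hQ v = word en Q hQ w := by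
  apply Subtype.ext
  apply Units.ext
  show matHom (word en Q hQ v) = matHom (word en Q hQ w)
  refine Matrix.ext_of_mulVec_single fun i => ?_
  rw [← code_single en i, word_apply, word_apply,
    beq_iff_eq.1 (List.all_eq_true.1 h _ (List.mem_range.2 (en i).isLt))]

theorem rf_sq (u : ℕ) : rf en Q hQ u * rf en Q hQ u = 1 := by
  unfold rf
  split
  · next h =>
    apply (toOQ Q hQ).injective
    rw [map_mul, MulEquiv.apply_symm_apply, map_one]
    refine OQ.ext' fun x => ?_
    have hone : ∀ c : ZMod 2, c ≠ 0 → c = 1 := by decide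
    rw [mul_smul, orefl_smul, orefl_smul, hone _ h, inv_one, one_mul, one_mul, map_sub, map_smul,
      LinearMap.sub_apply, LinearMap.smul_apply, one_smul, bil_self, hone _ h,
      show (2 : ZMod 2) = 0 from rfl, zero_mul, smul_zero, sub_zero]
    funext i
    simp only [Pi.sub_apply]
    generalize bil Q x (code en u) • code en u = w
    ring_nf
    rw [show (2 : ZMod 2) = 0 from rfl, mul_zero, sub_zero]
  · exact one_mul 1

theorem rf_inv (u : ℕ) : (rf en Q hQ u)⁻¹ = rf en Q hQ u := inv_eq_of_mul_eq_one_right (rf_sq en Q hQ u)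

theorem word_rotWord (p : ℕ × ℕ) :
    word en Q hQ (rotWord p) = ⁅rf en Q hQ p.2, rf en Q hQ p.1⁆ := by
  simp [word, rotWord, commutatorElement_def, rf_inv, mul_assoc]

/-- A rotation as a member of `Ω`. -/
noncomputable def rot (p : ℕ × ℕ) : ↥(Cfsg.Omega (ZMod 2) f) :=
  ⟨⁅rf en Q hQ p.2, rf en Q hQ p.1⁆,
    Subgroup.commutator_mem_commutator (Subgroup.mem_top _) (Subgroup.mem_top _)⟩

/-- A product of rotations. -/
noncomputable def rots (l : List (ℕ × ℕ)) : ↥(Cfsg.Omega (ZMod 2) f) := (l.map (rot en Q hQ)).prod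

theorem rots_coe (l : List (ℕ × ℕ)) :
    (rots en Q hQ l : ↥(Cfsg.isometryGroup (ZMod 2) f)) = word en Q hQ (rotsWord l) := by
  induction l with
  | nil => simp [rots, rotsWord, word]
  | cons p l ih =>
    rw [rotsWord] at ih ⊢
    rw [List.flatMap_cons, word_append, word_rotWord, ← ih]
    simp [rots, rot]

theorem rots_apply (l : List (ℕ × ℕ)) (x : ℕ) :
    omegaMat (rots en Q hQ l) *ᵥ code en x = code en (evalN en f (rotsWord l) x) := by
  show matHom (rots en Q hQ l : ↥(Cfsg.isometryGroup (ZMod 2) f)) *ᵥ _ = _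
  rw [rots_coe, word_apply]

theorem rots_eq {l l' : List (ℕ × ℕ)} (h : sameN en f (rotsWord l) (rotsWord l') = true) :
    rots en Q hQ l = rots en Q hQ l' :=
  Subtype.ext (by rw [rots_coe, rots_coe, word_eq en Q hQ h])

theorem rots_append (l l' : List (ℕ × ℕ)) :
    rots en Q hQ (l ++ l') = rots en Q hQ l * rots en Q hQ l' := by simp [rots]

theorem rots_single (p : ℕ × ℕ) : rots en Q hQ [p] = rot en Q hQ p := by simp [rots]

theorem rots_fixFree {l : List (ℕ × ℕ)} (h : fixFreeN en f (rotsWord l) = true) :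
    FixFree omegaMat (rots en Q hQ l) := by
  intro v hv
  obtain ⟨x, hx, rfl⟩ := code_surjective en v
  rw [rots_apply] at hv
  have h1 := List.all_eq_true.1 h x (List.mem_range.2 hx)
  simp only [Bool.or_eq_true, beq_iff_eq, bne_iff_ne] at h1
  rcases h1 with rfl | h1
  · funext i; simp [code]
  · exfalso
    refine h1 (Nat.eq_of_testBit_eq fun j => ?_)
    rw [Nat.testBit_mod_two_pow, Nat.zero_testBit]
    by_cases hj : j < n
    · have := congrFun hv (en.symm ⟨j, hj⟩)
      simp only [code, Equiv.apply_symm_apply] at this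
      rw [Nat.testBit_xor]
      revert this
      cases (evalN en f (rotsWord l) x).testBit j <;> cases x.testBit j <;> simp
    · simp [hj]

omit [Fintype ι] [DecidableEq ι] in
/-- The elements commuting, as seen on codes. -/
def commN (v w : List ℕ) : Bool := sameN en f (v ++ w) (w ++ v)

theorem rots_comm {l l' : List (ℕ × ℕ)} (h : commN en (f := f) (rotsWord l) (rotsWord l') = true) :
    rots en Q hQ l * rots en Q hQ l' = rots en Q hQ l' * rots en Q hQ l :=
  Subtype.ext (by
    rw [Subgroup.coe_mul, Subgroup.coe_mul, rots_coe, rots_coe, ← word_append, ← word_append]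
    exact word_eq en Q hQ h)

theorem rot_swap (p : ℕ × ℕ) : rot en Q hQ p.swap = (rot en Q hQ p)⁻¹ :=
  Subtype.ext (by
    show ⁅rf en Q hQ p.1, rf en Q hQ p.2⁆ = ⁅rf en Q hQ p.2, rf en Q hQ p.1⁆⁻¹
    rw [commutatorElement_inv])

theorem rots_mem_of (H : Subgroup ↥(Cfsg.Omega (ZMod 2) f)) {l : List (ℕ × ℕ)}
    (h : ∀ p ∈ l, rot en Q hQ p ∈ H) : rots en Q hQ l ∈ H := by
  refine list_prod_mem fun y hy => ?_
  obtain ⟨p, hp, rfl⟩ := List.mem_map.1 hy
  exact h p hp

/-- The data of a certificate: the vector of the reflection, commuting rotations with fixed-point-free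
product, further rotations each with a fixed-point-free product commuting with it, and an orbit tree. -/
structure Cert where
  u : ℕ
  R : List (ℕ × ℕ)
  Z : List ((ℕ × ℕ) × List (ℕ × ℕ))
  tree : List (ℕ × ℕ × (ℕ × ℕ))

/-- The generators of a certificate. -/
def Cert.gens (c : Cert) : List (ℕ × ℕ) := c.R ++ c.Z.map Prod.fst

/-- The points reached along the tree, newest first. -/
def Cert.reach (c : Cert) : List ℕ := c.tree.foldl (fun S e => e.1 :: S) [c.u]

/-- Validity of a tree. -/
def treeOK (c : Cert) : List (ℕ × ℕ × (ℕ × ℕ)) → List ℕ → Bool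
  | [], _ => true
  | (k, par, p) :: T, S =>
    S.contains par && c.gens.contains p && evalN en f (rotWord p) par == k && treeOK c T (k :: S)

/-- Validity of a certificate. -/
def Cert.Valid (c : Cert) (f : (ι → ZMod 2) → ZMod 2) : Bool :=
  (f (code en c.u) == 1) && fixFreeN en f (rotsWord c.R) &&
  (c.R.all fun r => commN en (f := f) (rotsWord [r]) (rotsWord c.R)) &&
  (c.Z.all fun z => fixFreeN en f (rotsWord z.2) && commN en (f := f) (rotsWord [z.1]) (rotsWord z.2) &&
    z.2.all fun p => c.R.contains p || c.R.contains p.swap) &&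
  (c.gens.all fun p => c.gens.any fun q =>
    sameN en f (c.u :: rotWord p ++ [c.u]) (rotWord q) || sameN en f (c.u :: rotWord p ++ [c.u]) (rotWord q.swap)) &&
  treeOK en (f := f) c c.tree [c.u] &&
  ((List.range (2 ^ n)).all fun x => f (code en x) == 0 || c.reach.contains x)

variable {en}

omit en in
theorem reach_spec (en : ι ≃ Fin n) (c : Cert) (P : ℕ → Prop)
    (hstep : ∀ p ∈ c.gens, ∀ x, P x → P (evalN en f (rotWord p) x)) :
    ∀ T S, treeOK en (f := f) c T S = true → (∀ x ∈ S, P x) →
      ∀ x ∈ T.foldl (fun S e => e.1 :: S) S, P x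
  | [], S, _, hS => hS
  | (k, par, p) :: T, S, h, hS => by
    simp only [treeOK, Bool.and_eq_true, List.contains_iff_mem, beq_iff_eq] at h
    obtain ⟨⟨⟨h1, h2⟩, h3⟩, h4⟩ := h
    refine reach_spec en c P hstep T (k :: S) h4 fun x hx => ?_
    rcases List.mem_cons.1 hx with rfl | hx
    · exact h3 ▸ hstep p h2 par (hS par h1)
    · exact hS x hx

include hQ in
/-- A valid certificate makes every cocycle principal, once reflections generate. -/
theorem isPrincipal_of_cert (c : Cert) (hc : c.Valid en f = true)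
    (hgen : Subgroup.closure (reflectionSet Q) = ⊤)
    {φ : ↥(Cfsg.Omega (ZMod 2) f) → ι → ZMod 2} (hφ : IsCocycle omegaMat φ) :
    IsPrincipal omegaMat φ := by
  simp only [Cert.Valid, Bool.and_eq_true, List.all_eq_true, List.any_eq_true, Bool.or_eq_true,
    List.contains_iff_mem, beq_iff_eq] at hc
  obtain ⟨⟨⟨⟨⟨⟨hu, hRff⟩, hRc⟩, hZ⟩, hT⟩, htree⟩, hcov⟩ := hc
  obtain ⟨v, hψ, hzero⟩ := exists_normalized hφ (rots_fixFree en Q hQ hRff)
  refine isPrincipal_of_zero v hψ (eq_top_iff.2 fun g _ => ?_)
  set H := zeroSubgroup hψ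
  -- the generators lie in the zero subgroup
  have hR : ∀ r ∈ c.R, rot en Q hQ r ∈ H := fun r hr => by
    have := rots_comm en Q hQ (hRc r hr)
    rw [rots_single] at this
    exact mem_zero_of_commute hψ (rots_fixFree en Q hQ hRff) hzero this
  have hG : ∀ p ∈ c.gens, rot en Q hQ p ∈ H := by
    intro p hp
    rcases List.mem_append.1 hp with hp | hp
    · exact hR p hp
    · obtain ⟨z, hz, rfl⟩ := List.mem_map.1 hp
      obtain ⟨⟨h1, h2⟩, h3⟩ := hZ z hz
      have hxs : rots en Q hQ z.2 ∈ H := rots_mem_of en Q hQ H fun q hq => by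
        rcases h3 q hq with h | h
        · exact hR q h
        · have := hR q.swap h
          rw [rot_swap, inv_mem_iff] at this
          exact this
      have := rots_comm en Q hQ h2
      rw [rots_single] at this
      exact mem_zero_of_commute hψ (rots_fixFree en Q hQ h1) hxs this
  -- the subgroup they generate
  set t := rf en Q hQ c.u
  set L := Subgroup.closure {g | ∃ p ∈ c.gens, g = word en Q hQ (rotWord p)} with hLdef
  have hwmem : ∀ p ∈ c.gens, word en Q hQ (rotWord p) ∈ L := fun p hp =>
    Subgroup.subset_closure ⟨p, hp, rfl⟩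
  have hLH : L ≤ H.map (Cfsg.Omega (ZMod 2) f).subtype := (Subgroup.closure_le _).2 (by
    rintro _ ⟨p, hp, rfl⟩
    exact ⟨rot en Q hQ p, hG p hp, (word_rotWord en Q hQ p).symm⟩)
  have htt : t * t = 1 := rf_sq en Q hQ c.u
  have hti : t⁻¹ = t := rf_inv en Q hQ c.u
  have htL : ∀ g ∈ L, t * g * t⁻¹ ∈ L := by
    intro g hg
    induction hg using Subgroup.closure_induction with
    | mem g hg =>
      obtain ⟨p, hp, rfl⟩ := hg
      have e : t * word en Q hQ (rotWord p) * t⁻¹ = word en Q hQ (c.u :: rotWord p ++ [c.u]) := by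
        rw [hti, word_append]
        simp [word, t, mul_assoc]
      obtain ⟨q, hq, h | h⟩ := hT p hp
      · rw [e, word_eq en Q hQ h]; exact hwmem q hq
      · rw [e, word_eq en Q hQ h, word_rotWord, Prod.fst_swap, Prod.snd_swap, ← commutatorElement_inv,
          ← word_rotWord]
        exact inv_mem (hwmem q hq)
    | one => simp
    | mul a b _ _ ha hb =>
      rw [show t * (a * b) * t⁻¹ = t * a * t⁻¹ * (t * b * t⁻¹) by group]
      exact mul_mem ha hb
    | inv a _ ha =>
      rw [show t * a⁻¹ * t⁻¹ = (t * a * t⁻¹)⁻¹ by group]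
      exact inv_mem ha
  -- every reflection is a conjugate of the given one under the subgroup
  have hreach : ∀ x ∈ c.reach, ∃ g ∈ L, matHom g *ᵥ code en c.u = code en x := by
    refine reach_spec en c _ ?_ c.tree [c.u] htree ?_
    · rintro p hp x ⟨g, hg, hgx⟩
      refine ⟨word en Q hQ (rotWord p) * g, mul_mem (hwmem p hp) hg, ?_⟩
      rw [map_mul, ← Matrix.mulVec_mulVec, hgx, word_apply]
    · simp only [List.mem_singleton, forall_eq]
      exact ⟨1, one_mem _, by rw [map_one, Matrix.one_mulVec]⟩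
  let S : Set ↥(Cfsg.isometryGroup (ZMod 2) f) := {s | ∃ g ∈ L, s = g * t * g⁻¹}
  have hgen' : Subgroup.closure S = ⊤ := by
    apply Subgroup.map_injective (f := (toOQ Q hQ).toMonoidHom) (toOQ Q hQ).injective
    rw [eq_comm, Subgroup.map_top_of_surjective _ (toOQ Q hQ).surjective,
      ← Subgroup.map_top_of_surjective (isometryEquiv Q).toMonoidHom (isometryEquiv Q).surjective, ← hgen,
      MonoidHom.map_closure, MonoidHom.map_closure, MulEquiv.coe_toMonoidHom, image_reflectionSet]
    refine le_antisymm ((Subgroup.closure_le _).2 ?_) ((Subgroup.closure_le _).2 ?_)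
    · rintro _ ⟨b, hb, rfl⟩
      obtain ⟨x, hx, rfl⟩ := code_surjective en b
      obtain ⟨g, hg, hgx⟩ := hreach x ((hcov x (List.mem_range.2 hx)).resolve_left (by rw [← hQ]; exact hb))
      refine Subgroup.subset_closure ⟨g * t * g⁻¹, ⟨g, hg, rfl⟩, ?_⟩
      have hu' : Q (code en c.u) ≠ 0 := by rw [hQ, hu]; exact one_ne_zero
      show toOQ Q hQ (g * t * g⁻¹) = _
      rw [map_mul, map_mul, map_inv, show toOQ Q hQ t = orefl hu' by
        simp [t, rf, dif_pos hu'], orefl_conj]
      congr 1
    · rintro _ ⟨_, ⟨g, -, rfl⟩, rfl⟩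
      have hu' : Q (code en c.u) ≠ 0 := by rw [hQ, hu]; exact one_ne_zero
      refine Subgroup.subset_closure ⟨toOQ Q hQ g • code en c.u, by rwa [quad_smul], ?_⟩
      show toOQ Q hQ (g * t * g⁻¹) = _
      rw [map_mul, map_mul, map_inv, show toOQ Q hQ t = orefl hu' by
        simp [t, rf, dif_pos hu'], orefl_conj]
  have hSL : ∀ s ∈ S, ∀ x ∈ L, s * x * s⁻¹ ∈ L := by
    rintro _ ⟨g, hg, rfl⟩ x hx
    rw [show g * t * g⁻¹ * x * (g * t * g⁻¹)⁻¹ = g * (t * (g⁻¹ * x * g) * t⁻¹) * g⁻¹ by group]
    exact mul_mem (mul_mem hg (htL _ (mul_mem (mul_mem (inv_mem hg) hx) hg))) (inv_mem hg)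
  have hSinv : ∀ s ∈ S, s * s = 1 := by
    rintro _ ⟨g, -, rfl⟩
    rw [show g * t * g⁻¹ * (g * t * g⁻¹) = g * (t * t) * g⁻¹ by group, htt]; group
  haveI : L.Normal := by
    refine ⟨fun x hx g => ?_⟩
    have hg : g ∈ Subgroup.closure S := by rw [hgen']; trivial
    revert x
    induction hg using Subgroup.closure_induction'' with
    | mem s hs => exact fun x hx => hSL s hs x hx
    | inv_mem s hs =>
      rw [inv_eq_of_mul_eq_one_right (hSinv s hs)]
      exact fun x hx => hSL s hs x hx
    | one => simp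
    | mul a b _ _ ha hb =>
      intro x hx
      rw [show a * b * x * (a * b)⁻¹ = a * (b * x * b⁻¹) * a⁻¹ by group]
      exact ha _ (hb x hx)
  have hcomm : commutator ↥(Cfsg.isometryGroup (ZMod 2) f) ≤ L := by
    have hcyc : ∀ a : ↥(Cfsg.isometryGroup (ZMod 2) f) ⧸ L,
        a ∈ Subgroup.zpowers (QuotientGroup.mk' L t) := by
      intro a
      obtain ⟨a, rfl⟩ := QuotientGroup.mk'_surjective L a
      have ha : a ∈ Subgroup.closure S := by rw [hgen']; trivial
      refine (Subgroup.closure_le ((Subgroup.zpowers (QuotientGroup.mk' L t)).comap (QuotientGroup.mk' L))).2 ?_ ha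
      rintro _ ⟨g, hg, rfl⟩
      show QuotientGroup.mk' L (g * t * g⁻¹) ∈ Subgroup.zpowers (QuotientGroup.mk' L t)
      rw [map_mul, map_mul, map_inv, show QuotientGroup.mk' L g = 1 from (QuotientGroup.eq_one_iff g).2 hg,
        inv_one, one_mul, mul_one]
      exact Subgroup.mem_zpowers _
    rw [commutator_def, Subgroup.commutator_le]
    intro a _ b _
    rw [← QuotientGroup.eq_one_iff]
    show QuotientGroup.mk' L ⁅a, b⁆ = 1
    rw [map_commutatorElement, commutatorElement_eq_one_iff_mul_comm]
    obtain ⟨i, hi⟩ := Subgroup.mem_zpowers_iff.1 (hcyc (QuotientGroup.mk' L a))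
    obtain ⟨j, hj⟩ := Subgroup.mem_zpowers_iff.1 (hcyc (QuotientGroup.mk' L b))
    rw [← hi, ← hj, ← zpow_add, ← zpow_add, add_comm]
  obtain ⟨g', hg', e⟩ := hLH (hcomm g.2)
  rwa [show g' = g from Subtype.ext e] at hg'

end Cfsg.Agent.OrthH1
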